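import Groth.Agent.Pi1.H414.TameQuot
import Groth.Agent.Pi1.H415.Glue
import Groth.Agent.Pi1.H390.KumSch

/-!
# S3690 from S3689 (`Abh`)
-/

set_option autoImplicit false
open CategoryTheory CategoryTheory.Limits AlgebraicGeometry
universe u

namespace Groth.Agent.Pi1.H392.S3690_of

open Groth.Agent.Pi1.H415 Groth.Agent.Pi1.H415.Stmts Groth.Agent.Pi1.H415.SplitBC
  Groth.Agent.Pi1.H415.Glue Groth.Agent.Pi1.H415.KumBC Groth.Agent.Pi1.H415.Local
  Groth.Agent.Pi1.H414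

/-- Variant of `Glue.exists_split` assuming only tameness over the maximal points. -/
theorem exists_split_over {X S : Scheme.{u}} (f : X ⟶ S) {r : ℕ} (φ : Fin r → Γ(X, ⊤))
    (hD : SGA1t.IsRelSNC f φ) (x : X)
    (R : Type u) [CommRing R] [IsLocalRing R] [Algebra (X.presheaf.stalk x) R]
    [IsLocalHom (algebraMap (X.presheaf.stalk x) R)] [Hensel.IsStrictHenselization (X.presheaf.stalk x) R]
    (hA : Abh.{u}) (hx : Nonempty (SGA1t.vanishingAt φ x))
    (V : FEt.Cat (cmpl φ x R : Scheme.{u}))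
    (htame : SGA1t.IsRelTameOver (Hens2.specOf X x R ≫ f) (fun i => (Hens2.specOf X x R).appTop (φ i)) V
      {s : S | ∀ s' : S, s' ⤳ s → s' = s}) :
    ∃ n : SGA1t.vanishingAt φ x → ℕ, (∀ i, 1 ≤ n i) ∧ (∀ i, IsUnit ((n i : ℕ) : X.residueField x)) ∧
      PtSplit V.hom (str R (eqs φ x R) n ∣_ cmpl φ x R) := by
  obtain ⟨n, hn, hnu, W, ⟨e⟩⟩ := hA f φ hD x hx R V htame
  have : HenselianLocalRing R := Hensel.IsStrictHenselization.henselian (X.presheaf.stalk x)
  have : IsSepClosed (IsLocalRing.ResidueField R) :=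
    (Hensel.IsStrictHenselization.isSepClosure (R := X.presheaf.stalk x) (S := R)).1
  have : HenselianLocalRing (SGA1t.kummer R (eqs φ x R) n) :=
    KumSH.henselian (eqs φ x R) n (eqs_mem φ x R) hn
  have : IsSepClosed (IsLocalRing.ResidueField (SGA1t.kummer R (eqs φ x R) n)) :=
    KumSH.isSepClosed_residueField (eqs φ x R) n (eqs_mem φ x R) hn
  exact ⟨n, hn, hnu, SHSplit.ptSplit_of_extends (B := SGA1t.kummer R (eqs φ x R) n)
    (str R (eqs φ x R) n ⁻¹ᵁ cmpl φ x R).ι (str R (eqs φ x R) n ∣_ cmpl φ x R) V W e⟩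

/-- **S3690 from S3689.** -/
theorem main (hA : Abh.{u}) {X S : Scheme.{u}} (f : X ⟶ S) {r : ℕ} (φ : Fin r → Γ(X, ⊤))
    (hD : SGA1t.IsRelSNC f φ) (x : X) (hx : Nonempty (SGA1t.vanishingAt φ x))
    (R : Type u) [CommRing R] [IsLocalRing R] [Algebra (X.presheaf.stalk x) R]
    [IsLocalHom (algebraMap (X.presheaf.stalk x) R)] [Hensel.IsStrictHenselization (X.presheaf.stalk x) R]
    (V₁ : FEt.Cat (SGA1t.compl (fun i => (Hens2.specOf X x R).appTop (φ i)) : Scheme.{u}))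
    (htame : SGA1t.IsRelTameOver (Hens2.specOf X x R ≫ f) (fun i => (Hens2.specOf X x R).appTop (φ i)) V₁
      {s : S | ∀ s' : S, s' ⤳ s → s' = s}) :
    SGA1t.IsRelTame (Hens2.specOf X x R ≫ f) (fun i => (Hens2.specOf X x R).appTop (φ i)) V₁ := by
  obtain ⟨n, hn, hnu, hs⟩ := exists_split_over f φ hD x R hA hx V₁ htame
  have hnR : ∀ i, IsUnit ((n i : ℕ) : R) := fun i => isUnit_natCast _ R _ (hnu i)
  have hF : IsFinite (str R (eqs φ x R) n ∣_ cmpl φ x R) := isFinite_restrict (eqs φ x R) n hn _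
  have hE : Etale (str R (eqs φ x R) n ∣_ cmpl φ x R) := Glue.etale_restrict φ x R n hn hnu
  have hSu : Surjective (str R (eqs φ x R) n ∣_ cmpl φ x R) := surjective_restrict (eqs φ x R) n hn _
  let K : FEt.Cat (cmpl φ x R : Scheme.{u}) :=
    MorphismProperty.Over.mk ⊤ (str R (eqs φ x R) n ∣_ cmpl φ x R) ⟨hF, hE⟩
  refine TameQuot.isRelTame_of_dominated _ _ V₁ fun p => ?_
  obtain ⟨s, h1, h2⟩ := exists_mem_range V₁.hom (str R (eqs φ x R) n ∣_ cmpl φ x R) hs p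
  let q : K ⟶ V₁ := MorphismProperty.Over.homMk s h1
  refine ⟨K, q, h2, ?_⟩
  exact H390.KumSch.isRelTame (eqs φ x R) n hn hnR _ (fun i => compl_specOf_le x R φ i.1) _ hF hE

end Groth.Agent.Pi1.H392.S3690_of
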